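import Groth.Agent.CubeGenLib.Global

/-!
# The theorem of the cube for a family of trivialisations on slices
-/

set_option autoImplicit false
set_option backward.isDefEq.respectTransparency false
set_option linter.style.haveILetI false

universe u

open CategoryTheory CategoryTheory.Limits AlgebraicGeometry TopologicalSpace
open Groth.Agent.CubeLib Groth.Agent.AmpleLib Groth.Agent.PullbackMod Groth.Agent.ParaFLib

noncomputable section

namespace Groth.Agent.CubeGenLib

variable {S X Y Z : Scheme.{u}} (pX : X ⟶ S) (pY : Y ⟶ S) (pZ : Z ⟶ S)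
  [Flat pX] [IsProper pX] [LocallyOfFinitePresentation pX] [GeometricallyIntegral pX]
  [Flat pY] [IsProper pY] [LocallyOfFinitePresentation pY] [GeometricallyIntegral pY]

/-- The projection of the triple product to the third factor has geometrically integral fibres. -/
theorem geometricallyIntegral_family :
    GeometricallyIntegral (pullback.snd (pullback.fst pX pY ≫ pX) pZ) := by
  haveI : GeometricallyIntegral (pullback.fst pX pY ≫ pX) := ⟨fun K _ q W b c H => by
    haveI := geometricallyIntegral_prod pX pY (q (IsLocalRing.closedPoint K))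
    let f := pullback.fst pX pY ≫ pX
    let e := Spec.map (S.descResidueField (Scheme.stalkClosedPointTo q))
    have he : e ≫ S.fromSpecResidueField _ = q := S.descResidueField_stalkClosedPointTo_fromSpecResidueField _ _
    let l : W ⟶ f.fiber (q (IsLocalRing.closedPoint K)) :=
      pullback.lift b (c ≫ e) (by rw [Category.assoc, he]; exact H.w)
    have hl : IsPullback l c (f.fiberToSpecResidueField _) e := by
      refine IsPullback.of_right ?_ (pullback.lift_snd _ _ _)
        (IsPullback.of_hasPullback f (S.fromSpecResidueField _))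
      rw [pullback.lift_fst, he]
      exact H
    exact GeometricallyIntegral.geometrically_isIntegral _ _ _ hl⟩
  exact MorphismProperty.pullback_snd _ _ inferInstance

variable (x : S ⟶ X) (hx : x ≫ pX = 𝟙 S) (y : S ⟶ Y) (hy : y ≫ pY = 𝟙 S)
  (σ : Y ⟶ pullback pX pY) (hσ₁ : σ ≫ pullback.fst pX pY = pY ≫ x) (hσ₂ : σ ≫ pullback.snd pX pY = 𝟙 Y)
  (τ : X ⟶ pullback pX pY) (hτ₁ : τ ≫ pullback.fst pX pY = 𝟙 X) (hτ₂ : τ ≫ pullback.snd pX pY = pX ≫ y)
  (s : pullback (σ ≫ pullback.fst pX pY ≫ pX) pZ ⟶ pullback (pullback.fst pX pY ≫ pX) pZ)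
  (hs₁ : s ≫ pullback.fst _ _ = pullback.fst _ _ ≫ σ) (hs₂ : s ≫ pullback.snd _ _ = pullback.snd _ _)
  (t : pullback (τ ≫ pullback.fst pX pY ≫ pX) pZ ⟶ pullback (pullback.fst pX pY ≫ pX) pZ)
  (ht₁ : t ≫ pullback.fst _ _ = pullback.fst _ _ ≫ τ) (ht₂ : t ≫ pullback.snd _ _ = pullback.snd _ _)
  {L : (pullback (pullback.fst pX pY ≫ pX) pZ).Modules} (hL : PicF.IsInvertible L)
  (hs : Triv ((Scheme.Modules.pullback s).obj L)) (ht : Triv ((Scheme.Modules.pullback t).obj L))

include hx hy hσ₁ hσ₂ hτ₁ hτ₂ hs₁ hs₂ ht₁ ht₂ hL hs ht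

/-- The trivial locus is clopen, and triviality on all fibres gives triviality. -/
theorem family_cube :
    IsClopen {z : Z | Triv ((Scheme.Modules.pullback ((pullback.snd (pullback.fst pX pY ≫ pX) pZ).fiberι z)).obj L)} ∧
    ((∀ z : Z, Triv ((Scheme.Modules.pullback ((pullback.snd (pullback.fst pX pY ≫ pX) pZ).fiberι z)).obj L)) →
      Triv L) := by
  let fX := pullback.snd pX pZ
  let fY := pullback.snd pY pZ
  haveI : IsProper fX := MorphismProperty.pullback_snd _ _ inferInstance
  haveI : IsProper fY := MorphismProperty.pullback_snd _ _ inferInstance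
  haveI : Flat fX := MorphismProperty.pullback_snd _ _ inferInstance
  haveI : Flat fY := MorphismProperty.pullback_snd _ _ inferInstance
  haveI : GeometricallyIntegral fX := MorphismProperty.pullback_snd _ _ inferInstance
  haveI : GeometricallyIntegral fY := MorphismProperty.pullback_snd _ _ inferInstance
  haveI : LocallyOfFinitePresentation fX := MorphismProperty.pullback_snd _ _ inferInstance
  haveI : LocallyOfFinitePresentation fY := MorphismProperty.pullback_snd _ _ inferInstance
  have hA : IsPullback (pullback.fst pX pZ) fX pX pZ := IsPullback.of_hasPullback _ _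
  have hB : IsPullback (pullback.fst pY pZ) fY pY pZ := IsPullback.of_hasPullback _ _
  let p := pullback.fst pX pY ≫ pX
  let f := pullback.fst fX fY ≫ fX
  have hm : IsPullback (prodMap hA hB) f p pZ := isPullback_prodMap hA hB
  let a := hm.isoPullback
  have ha₁ : a.hom ≫ pullback.fst p pZ = prodMap hA hB := hm.isoPullback_hom_fst
  have ha₂ : a.hom ≫ pullback.snd p pZ = f := hm.isoPullback_hom_snd
  let x' : Z ⟶ pullback pX pZ :=
    pullback.lift (pZ ≫ x) (𝟙 _) (by rw [Category.assoc, hx, Category.comp_id, Category.id_comp])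
  let y' : Z ⟶ pullback pY pZ :=
    pullback.lift (pZ ≫ y) (𝟙 _) (by rw [Category.assoc, hy, Category.comp_id, Category.id_comp])
  have hx' : x' ≫ fX = 𝟙 _ := pullback.lift_snd _ _ _
  have hy' : y' ≫ fY = 𝟙 _ := pullback.lift_snd _ _ _
  let σ' : pullback pY pZ ⟶ pullback fX fY :=
    pullback.lift (fY ≫ x') (𝟙 _) (by rw [Category.assoc, hx', Category.comp_id, Category.id_comp])
  let τ' : pullback pX pZ ⟶ pullback fX fY :=
    pullback.lift (𝟙 _) (fX ≫ y') (by rw [Category.assoc, hy', Category.comp_id, Category.id_comp])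
  have hσp : σ ≫ pullback.fst pX pY ≫ pX = pY := by
    rw [← Category.assoc, hσ₁, Category.assoc, hx, Category.comp_id]
  have hτp : τ ≫ pullback.fst pX pY ≫ pX = pX := by
    rw [← Category.assoc, hτ₁, Category.id_comp]
  let e₁ : pullback pY pZ ⟶ pullback (σ ≫ p) pZ :=
    pullback.lift (pullback.fst _ _) (pullback.snd _ _) (by rw [hσp]; exact pullback.condition)
  let e₂ : pullback pX pZ ⟶ pullback (τ ≫ p) pZ :=
    pullback.lift (pullback.fst _ _) (pullback.snd _ _) (by rw [hτp]; exact pullback.condition)
  have hσm : σ' ≫ a.hom = e₁ ≫ s := by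
    apply pullback.hom_ext
    · rw [Category.assoc, ha₁, Category.assoc, hs₁, ← Category.assoc e₁, pullback.lift_fst]
      apply pullback.hom_ext
      · simp only [σ', x', prodMap, Category.assoc, pullback.lift_fst, pullback.lift_fst_assoc, hσ₁, fY]
        rw [← Category.assoc, ← pullback.condition, Category.assoc]
      · simp only [σ', prodMap, Category.assoc, pullback.lift_snd, pullback.lift_snd_assoc, hσ₂, Category.comp_id]
        exact Category.id_comp _
    · rw [Category.assoc, ha₂, Category.assoc, hs₂, pullback.lift_snd]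
      show σ' ≫ pullback.fst fX fY ≫ fX = _
      rw [pullback.lift_fst_assoc, Category.assoc, hx', Category.comp_id]
  have hτm : τ' ≫ a.hom = e₂ ≫ t := by
    apply pullback.hom_ext
    · rw [Category.assoc, ha₁, Category.assoc, ht₁, ← Category.assoc e₂, pullback.lift_fst]
      apply pullback.hom_ext
      · simp only [τ', prodMap, Category.assoc, pullback.lift_fst, pullback.lift_fst_assoc, hτ₁, Category.comp_id]
        exact Category.id_comp _
      · simp only [τ', y', prodMap, Category.assoc, pullback.lift_snd, pullback.lift_snd_assoc, pullback.lift_fst,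
          hτ₂, fX]
        rw [← Category.assoc, ← pullback.condition, Category.assoc]
    · rw [Category.assoc, ha₂, Category.assoc, ht₂, pullback.lift_snd]
      show τ' ≫ pullback.fst fX fY ≫ fX = _
      rw [pullback.lift_fst_assoc, Category.id_comp]
  have hL' : PicF.IsInvertible ((Scheme.Modules.pullback a.hom).obj L) := isInvertible_pullback a.hom hL
  have hσ' : Triv ((Scheme.Modules.pullback σ').obj ((Scheme.Modules.pullback a.hom).obj L)) :=
    (triv_pullback_comp_iff σ' a.hom hσm).2
      ((triv_pullback_comp_iff e₁ s rfl).1 (hs.pullback e₁ (isInvertible_pullback s hL)))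
  have hτ' : Triv ((Scheme.Modules.pullback τ').obj ((Scheme.Modules.pullback a.hom).obj L)) :=
    (triv_pullback_comp_iff τ' a.hom hτm).2
      ((triv_pullback_comp_iff e₂ t rfl).1 (ht.pullback e₂ (isInvertible_pullback t hL)))
  haveI : GeometricallyIntegral (pullback.snd p pZ) := geometricallyIntegral_family pX pY pZ
  haveI : IsProper (pullback.snd p pZ) :=
    haveI : IsProper p := inferInstanceAs (IsProper (pullback.fst pX pY ≫ pX))
    MorphismProperty.pullback_snd _ _ inferInstance
  have hfib : ∀ z : Z, Triv ((Scheme.Modules.pullback (f.fiberι z)).obj ((Scheme.Modules.pullback a.hom).obj L)) ↔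
      Triv ((Scheme.Modules.pullback ((pullback.snd p pZ).fiberι z)).obj L) :=
    triv_fiber_iff (g := 𝟙 Z) (IsPullback.of_horiz_isIso ⟨by rw [ha₂, Category.comp_id]⟩) hL (Iso.refl _)
  constructor
  · have h := isClopen_setOf_triv fX fY x' hx' y' hy' σ' (pullback.lift_fst _ _ _) (pullback.lift_snd _ _ _) τ'
      (pullback.lift_fst _ _ _) (pullback.lift_snd _ _ _) hL' hσ' hτ'
    have he : {z : Z | Triv ((Scheme.Modules.pullback (f.fiberι z)).obj ((Scheme.Modules.pullback a.hom).obj L))} =
        {z : Z | Triv ((Scheme.Modules.pullback ((pullback.snd p pZ).fiberι z)).obj L)} := Set.ext hfib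
    exact he ▸ h
  · intro hall
    have h := triv_of_forall_fibre fX fY x' hx' y' hy' σ' (pullback.lift_fst _ _ _) (pullback.lift_snd _ _ _) τ'
      (pullback.lift_fst _ _ _) (pullback.lift_snd _ _ _) hL' hσ' hτ' fun z => (hfib z).2 (hall z)
    have h' := (triv_pullback_comp_iff a.inv a.hom a.inv_hom_id).1 (h.pullback a.inv hL')
    exact h'.of_iso ((Scheme.Modules.pullbackId _).app L)

end Groth.Agent.CubeGenLib
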