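import Groth.Agent.CubeGenLib.Pointed
import Groth.Agent.FPModelLib.Fibre
import Groth.Agent.FLCLib.Topology
import Groth.Agent.S9764

/-!
# Geometric integrality of the fibres descends to a stage
-/

set_option autoImplicit false
set_option backward.isDefEq.respectTransparency false
set_option linter.style.haveILetI false

universe u

open CategoryTheory CategoryTheory.Limits AlgebraicGeometry Topology

noncomputable section

namespace Groth.Agent.CubeGenLib

/-- Geometric irreducibility is tested on the fibres. -/
theorem geometricallyIrreducible_of_fibres {X S : Scheme.{u}} {f : X ⟶ S}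
    (h : ∀ s : S, GeometricallyIrreducible (f.fiberToSpecResidueField s)) : GeometricallyIrreducible f := by
  refine ⟨fun L _ y Z fst' snd' H => ?_⟩
  let s := y (IsLocalRing.closedPoint L)
  let e := Spec.map (S.descResidueField (Scheme.stalkClosedPointTo y))
  have he : e ≫ S.fromSpecResidueField s = y := S.descResidueField_stalkClosedPointTo_fromSpecResidueField _ _
  let l : Z ⟶ f.fiber s := pullback.lift fst' (snd' ≫ e) (by rw [Category.assoc, he]; exact H.w)
  have hl : IsPullback l snd' (f.fiberToSpecResidueField s) e := by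
    refine IsPullback.of_right ?_ (pullback.lift_snd _ _ _) (IsPullback.of_hasPullback f (S.fromSpecResidueField s))
    rw [pullback.lift_fst, he]
    exact H
  haveI := h s
  exact GeometricallyIrreducible.geometrically_irreducibleSpace _ _ _ hl

variable {I : Type u} [SmallCategory I] [IsCofiltered I] {D : I ⥤ Scheme.{u}} {c : Cone D}
  [∀ {i j} (a : i ⟶ j), IsAffineHom (D.map a)] [∀ i, IsAffine (D.obj i)] [∀ i, IsNoetherian (D.obj i)]
  (hc : IsLimit c)

include hc in
/-- A set of points of a stage which, with each of its points, contains a neighbourhood in the closure of that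
point, contains the image of some later stage as soon as it contains the image of the limit. -/
theorem exists_stage_forall_mem_of_nhds {i : I} {E : Set (D.obj i)}
    (hE : ∀ w ∈ E, ∃ V : Set (D.obj i), IsOpen V ∧ w ∈ V ∧ V ∩ closure {w} ⊆ E)
    (h : ∀ s, c.π.app i s ∈ E) : ∃ (j : I) (φ : j ⟶ i), ∀ z, D.map φ z ∈ E := by
  classical
  haveI : CompactSpace c.pt := Scheme.compactSpace_of_isLimit D c hc
  haveI : IsAffine c.pt := Scheme.isAffine_of_isLimit c hc
  let p : c.pt ⟶ D.obj i := c.π.app i
  haveI : IsAffineHom p := isAffineHom_of_isAffine _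
  choose V hVo hV hVE using fun w : E => hE w.1 w.2
  let C : E → Set (D.obj i) := fun w => V w ∩ closure {w.1}
  have hop : ∀ U : Set (D.obj i), IsOpen U → IsConstructible U := fun U hU =>
    (TopologicalSpace.NoetherianSpace.isCompact U).isConstructible hU
  have hC : ∀ w, IsConstructible (C w) := fun w =>
    (hop _ (hVo w)).inter (IsConstructible.of_compl (hop _ isClosed_closure.isOpen_compl))
  obtain ⟨t, ht⟩ := FLCLib.exists_finite_subcover (X := c.pt) (fun w : E => p ⁻¹' C w)
    (fun w => (hC w).preimage p.continuous fun U hU hUc =>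
      (QuasiCompact.isCompact_preimage (f := p) _ hU (TopologicalSpace.NoetherianSpace.isCompact U)).isRetrocompact
        (hU.preimage p.continuous))
    (fun s => ⟨⟨_, h s⟩, hV _, subset_closure rfl⟩)
  obtain ⟨j, φ, hj⟩ := AffLim.exists_preimage_eq_empty D c hc
    (IsConstructible.biUnion t.finite_toSet fun w _ => hC w).compl
    (Set.eq_empty_iff_forall_notMem.2 fun s hs => by
      obtain ⟨w, hw, hsw⟩ := ht s
      exact hs (Set.mem_biUnion hw hsw))
  refine ⟨j, φ, fun z => ?_⟩
  obtain ⟨w, -, hzw⟩ := Set.mem_iUnion₂.1 (not_not.1 fun hz => (Set.eq_empty_iff_forall_notMem.1 hj z) hz :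
    D.map φ z ∈ ⋃ w ∈ (t : Set E), C w)
  exact hVE w hzw

variable {X : Scheme.{u}} {fX : X ⟶ c.pt} {x : c.pt ⟶ X}

include hc in
/-- A pointed model with geometrically integral fibres. -/
theorem exists_pm_gi_of (hgen : ∀ {W B : Scheme.{u}} [IsNoetherian B] (g : W ⟶ B) [IsProper g] (w : B),
      GeometricallyIrreducible (g.fiberToSpecResidueField w) → ∃ V : Set B, IsOpen V ∧ w ∈ V ∧
        V ∩ closure {w} ⊆ {v | GeometricallyIrreducible (g.fiberToSpecResidueField v)})
    [IsProper fX] [Flat fX] [LocallyOfFinitePresentation fX] [GeometricallyIntegral fX]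
    (hx : x ≫ fX = 𝟙 c.pt) : ∃ (i : I) (A : PM D c fX x i), GeometricallyIntegral A.hom := by
  obtain ⟨i, ⟨A⟩⟩ := exists_pm hc (fX := fX) hx
  obtain ⟨j₁, φ₁, h₁⟩ := FPModelLib.exists_geometricallyReduced D c hc A.hom A.isPullback
  let A₁ := A.move φ₁
  haveI : GeometricallyReduced A₁.hom := h₁
  obtain ⟨j₂, φ₂, h₂⟩ := exists_stage_forall_mem_of_nhds hc
    (E := {v | GeometricallyIrreducible (A₁.hom.fiberToSpecResidueField v)}) (fun w hw => hgen A₁.hom w hw)
    (fun s => by
      have h3 : GeometricallyIrreducible (fX.fiberToSpecResidueField s) :=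
        MorphismProperty.pullback_snd _ _ inferInstance
      exact (Set.ext_iff.1 (S9764.result A₁.hom _ fX A₁.q A₁.isPullback) s).1 h3)
  refine ⟨j₂, A₁.move φ₂, ?_⟩
  haveI : GeometricallyIrreducible (A₁.move φ₂).hom := geometricallyIrreducible_of_fibres fun z =>
    (Set.ext_iff.1 (S9764.result A₁.hom (D.map φ₂) _ _ (IsPullback.of_hasPullback A₁.hom (D.map φ₂))) z).2 (h₂ z)
  haveI : GeometricallyReduced (A₁.move φ₂).hom := MorphismProperty.pullback_snd _ _ h₁
  exact GeometricallyIntegral.of_geometricallyReduced_of_geometricallyIrreducible _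

end Groth.Agent.CubeGenLib
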