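import Groth.Agent.CubeGenLib.GeomInt
import Groth.Agent.S0419

/-!
# Pointed models with geometrically integral fibres
-/

set_option autoImplicit false
set_option backward.isDefEq.respectTransparency false
set_option linter.style.haveILetI false

universe u

open CategoryTheory CategoryTheory.Limits AlgebraicGeometry Topology

noncomputable section

namespace Groth.Agent.CubeGenLib

/-- Geometrically irreducible fibres spread out along the closure of a point. -/
theorem exists_nhd_geometricallyIrreducible {W B : Scheme.{u}} (g : W ⟶ B) [LocallyOfFiniteType g] [QuasiCompact g]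
    (w : B) (hw : GeometricallyIrreducible (g.fiberToSpecResidueField w)) :
    ∃ V : Set B, IsOpen V ∧ w ∈ V ∧
      V ∩ closure {w} ⊆ {v | GeometricallyIrreducible (g.fiberToSpecResidueField v)} := by
  let K := Scheme.IdealSheafData.vanishingIdeal (X := B) ⟨closure {w}, isClosed_closure⟩
  let i := K.subschemeι
  have hr : Set.range i = closure {w} := by
    rw [Scheme.IdealSheafData.range_subschemeι, Scheme.IdealSheafData.coe_support_vanishingIdeal]
    rfl
  have hi : IsClosedEmbedding i := i.isClosedEmbedding
  obtain ⟨w', hw'⟩ : w ∈ Set.range i := hr ▸ subset_closure rfl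
  have hcl : closure {w'} = (Set.univ : Set K.subscheme) := by
    rw [hi.isEmbedding.isInducing.closure_eq_preimage_closure_image, Set.image_singleton, hw', ← hr,
      Set.preimage_range]
  have hirr : IsIrreducible (Set.univ : Set K.subscheme) := hcl ▸ isIrreducible_singleton.closure
  haveI : IrreducibleSpace K.subscheme := (irreducibleSpace_def _).2 hirr
  have hgen : genericPoint K.subscheme = w' := (genericPoint_spec K.subscheme).eq hcl
  let g' := pullback.snd g i
  have hsq : IsPullback (pullback.fst g i) g' g i := IsPullback.of_hasPullback _ _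
  haveI : LocallyOfFiniteType g' := MorphismProperty.pullback_snd _ _ inferInstance
  haveI : QuasiCompact g' := MorphismProperty.pullback_snd _ _ inferInstance
  have h0 : GeometricallyIrreducible (g'.fiberToSpecResidueField (genericPoint K.subscheme)) := by
    refine (Set.ext_iff.1 (S9764.result g i g' _ hsq) _).2 ?_
    show GeometricallyIrreducible (g.fiberToSpecResidueField (i (genericPoint K.subscheme)))
    rw [hgen, hw']
    exact hw
  obtain ⟨V, hV, hVg⟩ := S0419.result g' h0
  obtain ⟨U, hU, hUV⟩ := hi.isEmbedding.isInducing.isOpen_iff.1 V.2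
  have hwV : w' ∈ V := hgen ▸ ((genericPoint_spec K.subscheme).mem_open_set_iff V.2).2 (by simpa using hV)
  refine ⟨U, hU, ?_, fun v ⟨hv, hvc⟩ => ?_⟩
  · rw [← hw']
    exact (Set.ext_iff.1 hUV w').2 hwV
  · obtain ⟨v', rfl⟩ : v ∈ Set.range i := hr ▸ hvc
    have hv' : v' ∈ V := (Set.ext_iff.1 hUV v').1 hv
    have h1 : GeometricallyIrreducible ((g' ∣_ V).fiberToSpecResidueField ⟨v', hv'⟩) :=
      MorphismProperty.pullback_snd _ _ hVg
    have h2 := (Set.ext_iff.1 (S9764.result g' V.ι _ _ (isPullback_morphismRestrict g' V).flip) ⟨v', hv'⟩).1 h1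
    exact (Set.ext_iff.1 (S9764.result g i g' _ hsq) v').1 h2

variable {I : Type u} [SmallCategory I] [IsCofiltered I] {D : I ⥤ Scheme.{u}} {c : Cone D}
  [∀ {i j} (a : i ⟶ j), IsAffineHom (D.map a)] [∀ i, IsAffine (D.obj i)] [∀ i, IsNoetherian (D.obj i)]
  {X : Scheme.{u}} {fX : X ⟶ c.pt} {x : c.pt ⟶ X} (hc : IsLimit c)

include hc in
/-- A pointed model with geometrically integral fibres. -/
theorem exists_pm_gi [IsProper fX] [Flat fX] [LocallyOfFinitePresentation fX] [GeometricallyIntegral fX]
    (hx : x ≫ fX = 𝟙 c.pt) : ∃ (i : I) (A : PM D c fX x i), GeometricallyIntegral A.hom :=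
  exists_pm_gi_of hc (fun g _ w hw => exists_nhd_geometricallyIrreducible g w hw) hx

end Groth.Agent.CubeGenLib
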