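import Groth.Agent.CubeGenLib.Main

/-!
# The theorem of the cube over an arbitrary base: globalisation
-/

set_option autoImplicit false
set_option backward.isDefEq.respectTransparency false
set_option linter.style.haveILetI false
set_option linter.unusedSectionVars false

universe u

open CategoryTheory CategoryTheory.Limits AlgebraicGeometry TopologicalSpace
open Groth.Agent.CubeLib Groth.Agent.AmpleLib Groth.Agent.PullbackMod Groth.Agent.ParaFLib

noncomputable section

namespace Groth.Agent.CubeGenLib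

/-- A generator on an open pulled back from a neighbourhood. -/
theorem exists_gen_of_pullback {P' P : Scheme.{u}} (m : P' ⟶ P) [IsOpenImmersion m] {L : P.Modules} {W : P'.Opens}
    {A : P.Opens} (hA : m ''ᵁ W = A) (h : ∃ s : Γ((Scheme.Modules.pullback m).obj L, W), Gen W s) :
    ∃ s : Γ(L, A), Gen A s := by
  obtain ⟨s, hs⟩ := h
  exact exists_gen_of_eq hA ⟨_, (ParaFLib.gen_restrict_iff m _).1
    (gen_of_modIso ((Scheme.Modules.restrictFunctorIsoPullback m).app L).symm hs)⟩

variable {S X Y : Scheme.{u}} (fX : X ⟶ S) (fY : Y ⟶ S)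
  [IsProper fX] [Flat fX] [LocallyOfFinitePresentation fX] [GeometricallyIntegral fX]
  [IsProper fY] [Flat fY] [LocallyOfFinitePresentation fY] [GeometricallyIntegral fY]
  (x : S ⟶ X) (hx : x ≫ fX = 𝟙 S) (y : S ⟶ Y) (hy : y ≫ fY = 𝟙 S)
  (σ : Y ⟶ pullback fX fY) (hσ₁ : σ ≫ pullback.fst fX fY = fY ≫ x) (hσ₂ : σ ≫ pullback.snd fX fY = 𝟙 Y)
  (τ : X ⟶ pullback fX fY) (hτ₁ : τ ≫ pullback.fst fX fY = 𝟙 X) (hτ₂ : τ ≫ pullback.snd fX fY = fX ≫ y)
  {L : (pullback fX fY).Modules} (hL : PicF.IsInvertible L)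
  (hσ : Triv ((Scheme.Modules.pullback σ).obj L)) (hτ : Triv ((Scheme.Modules.pullback τ).obj L))

theorem geometricallyIntegral_prod (w : S) :
    GeometricallyIntegral ((pullback.fst fX fY ≫ fX).fiberToSpecResidueField w) := by
  have e1 := IsPullback.of_hasPullback fX (S.fromSpecResidueField w)
  have e2 := IsPullback.of_hasPullback fY (S.fromSpecResidueField w)
  haveI : IsProper (fX.fiberToSpecResidueField w) := MorphismProperty.pullback_snd _ _ inferInstance
  haveI : IsProper (fY.fiberToSpecResidueField w) := MorphismProperty.pullback_snd _ _ inferInstance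
  haveI : Flat (fX.fiberToSpecResidueField w) := MorphismProperty.pullback_snd _ _ inferInstance
  haveI : Flat (fY.fiberToSpecResidueField w) := MorphismProperty.pullback_snd _ _ inferInstance
  haveI : GeometricallyIntegral (fX.fiberToSpecResidueField w) := MorphismProperty.pullback_snd _ _ inferInstance
  haveI : GeometricallyIntegral (fY.fiberToSpecResidueField w) := MorphismProperty.pullback_snd _ _ inferInstance
  have h := isPullback_prodMap e1 e2
  haveI := CubeBaseLib.geometricallyIntegral_struct (fX.fiberToSpecResidueField w) (fY.fiberToSpecResidueField w)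
  have hi := h.isoPullback_hom_snd
  rw [← MorphismProperty.cancel_left_of_respectsIso @GeometricallyIntegral h.isoPullback.hom]
  exact hi.symm ▸ ‹GeometricallyIntegral (pullback.fst (pullback.snd fX _) (pullback.snd fY _) ≫ pullback.snd fX _)›

include hx hy hσ₁ hσ₂ hτ₁ hτ₂ hL hσ hτ

/-- Near an affine open: fibrewise triviality is clopen and gives local triviality, and functions come from
the base. -/
theorem local_cube (U : S.Opens) (hU : IsAffineOpen U) :
    IsClopen {z : U | Triv ((Scheme.Modules.pullback ((pullback.fst fX fY ≫ fX).fiberι z.1)).obj L)} ∧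
    (∀ z ∈ U, Triv ((Scheme.Modules.pullback ((pullback.fst fX fY ≫ fX).fiberι z)).obj L) →
      ∃ V : S.Opens, z ∈ V ∧ ∃ s : Γ(L, (pullback.fst fX fY ≫ fX) ⁻¹ᵁ V), Gen ((pullback.fst fX fY ≫ fX) ⁻¹ᵁ V) s) ∧
    ∀ V : S.Opens, V ≤ U → Function.Bijective ((pullback.fst fX fY ≫ fX).app V) := by
  haveI : IsAffine (U : Scheme.{u}) := hU
  let fX' := pullback.snd fX U.ι
  let fY' := pullback.snd fY U.ι
  haveI : IsProper fX' := MorphismProperty.pullback_snd _ _ inferInstance
  haveI : IsProper fY' := MorphismProperty.pullback_snd _ _ inferInstance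
  haveI : Flat fX' := MorphismProperty.pullback_snd _ _ inferInstance
  haveI : Flat fY' := MorphismProperty.pullback_snd _ _ inferInstance
  haveI : GeometricallyIntegral fX' := MorphismProperty.pullback_snd _ _ inferInstance
  haveI : GeometricallyIntegral fY' := MorphismProperty.pullback_snd _ _ inferInstance
  haveI : LocallyOfFinitePresentation fX' := MorphismProperty.pullback_snd _ _ inferInstance
  haveI : LocallyOfFinitePresentation fY' := MorphismProperty.pullback_snd _ _ inferInstance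
  have hA : IsPullback (pullback.fst fX U.ι) fX' fX U.ι := IsPullback.of_hasPullback _ _
  have hB : IsPullback (pullback.fst fY U.ι) fY' fY U.ι := IsPullback.of_hasPullback _ _
  let m := prodMap hA hB
  let f := pullback.fst fX fY ≫ fX
  let f' := pullback.fst fX' fY' ≫ fX'
  have hm : IsPullback m f' f U.ι := isPullback_prodMap hA hB
  haveI : IsOpenImmersion m := MorphismProperty.of_isPullback hm.flip inferInstance
  let x' : (U : Scheme.{u}) ⟶ pullback fX U.ι :=
    pullback.lift (U.ι ≫ x) (𝟙 _) (by rw [Category.assoc, hx, Category.comp_id, Category.id_comp])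
  let y' : (U : Scheme.{u}) ⟶ pullback fY U.ι :=
    pullback.lift (U.ι ≫ y) (𝟙 _) (by rw [Category.assoc, hy, Category.comp_id, Category.id_comp])
  have hx' : x' ≫ fX' = 𝟙 _ := pullback.lift_snd _ _ _
  have hy' : y' ≫ fY' = 𝟙 _ := pullback.lift_snd _ _ _
  let σ' : pullback fY U.ι ⟶ pullback fX' fY' :=
    pullback.lift (fY' ≫ x') (𝟙 _) (by rw [Category.assoc, hx', Category.comp_id, Category.id_comp])
  let τ' : pullback fX U.ι ⟶ pullback fX' fY' :=
    pullback.lift (𝟙 _) (fX' ≫ y') (by rw [Category.assoc, hy', Category.comp_id, Category.id_comp])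
  have hσm : σ' ≫ m = pullback.fst fY U.ι ≫ σ := by
    apply pullback.hom_ext
    · simp only [σ', x', m, prodMap, Category.assoc, pullback.lift_fst, pullback.lift_fst_assoc, hσ₁, fY']
      rw [← Category.assoc, ← pullback.condition, Category.assoc]
    · simp only [σ', m, prodMap, Category.assoc, pullback.lift_snd, pullback.lift_snd_assoc, hσ₂, Category.comp_id]
      exact Category.id_comp _
  have hτm : τ' ≫ m = pullback.fst fX U.ι ≫ τ := by
    apply pullback.hom_ext
    · simp only [τ', m, prodMap, Category.assoc, pullback.lift_fst, pullback.lift_fst_assoc, hτ₁, Category.comp_id]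
      exact Category.id_comp _
    · simp only [τ', y', m, prodMap, Category.assoc, pullback.lift_snd, pullback.lift_snd_assoc, pullback.lift_fst,
        hτ₂, fX']
      rw [← Category.assoc, ← pullback.condition, Category.assoc]
  have hL' : PicF.IsInvertible ((Scheme.Modules.pullback m).obj L) := isInvertible_pullback m hL
  obtain ⟨h1, h2, h3⟩ := affine_cube fX' fY' x' hx' y' hy' σ' (pullback.lift_fst _ _ _) (pullback.lift_snd _ _ _) τ'
    (pullback.lift_fst _ _ _) (pullback.lift_snd _ _ _) hL'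
    ((triv_pullback_comp_iff σ' m hσm).2 ((triv_pullback_comp_iff _ σ rfl).1 (hσ.pullback _ (isInvertible_pullback σ hL))))
    ((triv_pullback_comp_iff τ' m hτm).2 ((triv_pullback_comp_iff _ τ rfl).1 (hτ.pullback _ (isInvertible_pullback τ hL))))
  haveI : IsProper f := inferInstanceAs (IsProper (pullback.fst fX fY ≫ fX))
  haveI : GeometricallyIntegral f := ⟨fun K _ p Z a b H => by
    haveI := geometricallyIntegral_prod fX fY (p (IsLocalRing.closedPoint K))
    let e := Spec.map (S.descResidueField (Scheme.stalkClosedPointTo p))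
    have he : e ≫ S.fromSpecResidueField _ = p := S.descResidueField_stalkClosedPointTo_fromSpecResidueField _ _
    let l : Z ⟶ f.fiber (p (IsLocalRing.closedPoint K)) := pullback.lift a (b ≫ e) (by rw [Category.assoc, he]; exact H.w)
    have hl : IsPullback l b (f.fiberToSpecResidueField _) e := by
      refine IsPullback.of_right ?_ (pullback.lift_snd _ _ _)
        (IsPullback.of_hasPullback f (S.fromSpecResidueField _))
      rw [pullback.lift_fst, he]
      exact H
    exact GeometricallyIntegral.geometrically_isIntegral _ _ _ hl⟩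
  have hfib : ∀ z : (U : Scheme.{u}), Triv ((Scheme.Modules.pullback (f'.fiberι z)).obj ((Scheme.Modules.pullback m).obj L)) ↔
      Triv ((Scheme.Modules.pullback (f.fiberι (U.ι z))).obj L) := triv_fiber_iff hm hL (Iso.refl _)
  have himg : ∀ V : (U : Scheme.{u}).Opens, m ''ᵁ (f' ⁻¹ᵁ V) = f ⁻¹ᵁ (U.ι ''ᵁ V) := fun V =>
    Opens.ext (AlgebraicGeometry.Scheme.image_preimage_eq_of_isPullback hm.flip (V : Set (U : Scheme.{u})))
  refine ⟨?_, fun z hz ht => ?_, fun V hV => ?_⟩
  · have : {z : U | Triv ((Scheme.Modules.pullback (f.fiberι z.1)).obj L)} =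
        {z : (U : Scheme.{u}) | Triv ((Scheme.Modules.pullback (f'.fiberι z)).obj ((Scheme.Modules.pullback m).obj L))} :=
      Set.ext fun z => (hfib z).symm
    rw [this]
    exact h1
  · obtain ⟨V, hzV, hs⟩ := h2 ⟨z, hz⟩ ((hfib ⟨z, hz⟩).2 ht)
    exact ⟨U.ι ''ᵁ V, ⟨⟨z, hz⟩, hzV, rfl⟩, exists_gen_of_pullback m (himg V) hs⟩
  · have hU' : IsPullback (f ⁻¹ᵁ U).ι (f ∣_ U) f U.ι := (isPullback_morphismRestrict f U).flip
    let a := hm.isoIsPullback _ _ hU'
    have ha : a.hom ≫ (f ∣_ U) = f' := hm.isoIsPullback_hom_snd _ _ hU'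
    have h4 : Function.Bijective (f'.app (U.ι ⁻¹ᵁ V)) := h3 (U.ι ⁻¹ᵁ V)
    rw [← ha, Scheme.Hom.comp_app] at h4
    have h5 : Function.Bijective ((f ∣_ U).app (U.ι ⁻¹ᵁ V)) :=
      (Function.Bijective.of_comp_iff' (ConcreteCategory.bijective_of_isIso (a.hom.app _)) _).1 h4
    obtain ⟨W, rfl⟩ : ∃ W : (U : Scheme.{u}).Opens, U.ι ''ᵁ W = V :=
      ⟨U.ι ⁻¹ᵁ V, by rw [Scheme.Hom.image_preimage_eq_opensRange_inf, Scheme.Opens.opensRange_ι, inf_eq_right.2 hV]⟩
    rw [U.ι.preimage_image_eq W, morphismRestrict_app] at h5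
    exact (Function.Bijective.of_comp_iff' (ConcreteCategory.bijective_of_isIso
      ((pullback fX fY).presheaf.map (eqToHom (image_morphismRestrict_preimage f U W)).op)) _).1 h5

/-- Over any base the fibrewise trivial locus is open and closed. -/
theorem isClopen_setOf_triv :
    IsClopen {z : S | Triv ((Scheme.Modules.pullback ((pullback.fst fX fY ≫ fX).fiberι z)).obj L)} := by
  set E := {z : S | Triv ((Scheme.Modules.pullback ((pullback.fst fX fY ≫ fX).fiberι z)).obj L)}
  have hloc : ∀ z : S, ∃ U : S.Opens, z ∈ U ∧ IsClopen ((Subtype.val : U → S) ⁻¹' E) := fun z => by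
    obtain ⟨_, ⟨U : S.Opens, hU, rfl⟩, hzU, -⟩ :=
      S.isBasis_affineOpens.exists_subset_of_mem_open (Set.mem_univ z) isOpen_univ
    exact ⟨U, hzU, (local_cube fX fY x hx y hy σ hσ₁ hσ₂ τ hτ₁ hτ₂ hL hσ hτ U hU).1⟩
  choose U hzU hU using hloc
  have hcov : TopologicalSpace.IsOpenCover U := eq_top_iff.2 fun z _ => Opens.mem_iSup.2 ⟨z, hzU z⟩
  exact ⟨hcov.isClosed_iff_coe_preimage.2 fun z => (hU z).1, hcov.isOpen_iff_coe_preimage.2 fun z => (hU z).2⟩

/-- Over any base a module trivial on all fibres is trivial. -/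
theorem triv_of_forall_fibre
    (hall : ∀ z : S, Triv ((Scheme.Modules.pullback ((pullback.fst fX fY ≫ fX).fiberι z)).obj L)) : Triv L := by
  let f := pullback.fst fX fY ≫ fX
  have hbij : ∀ z : S, ∃ U : S.Opens, z ∈ U ∧ ∀ V : S.Opens, V ≤ U → Function.Bijective (f.app V) := fun z => by
    obtain ⟨_, ⟨U : S.Opens, hU, rfl⟩, hzU, -⟩ :=
      S.isBasis_affineOpens.exists_subset_of_mem_open (Set.mem_univ z) isOpen_univ
    exact ⟨U, hzU, (local_cube fX fY x hx y hy σ hσ₁ hσ₂ τ hτ₁ hτ₂ hL hσ hτ U hU).2.2⟩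
  have hgen : ∀ z : S, ∃ U : S.Opens, z ∈ U ∧ ∃ s : Γ(L, f ⁻¹ᵁ U), Gen (f ⁻¹ᵁ U) s := fun z => by
    obtain ⟨_, ⟨U : S.Opens, hU, rfl⟩, hzU, -⟩ :=
      S.isBasis_affineOpens.exists_subset_of_mem_open (Set.mem_univ z) isOpen_univ
    exact (local_cube fX fY x hx y hy σ hσ₁ hσ₂ τ hτ₁ hτ₂ hL hσ hτ U hU).2.1 z hzU (hall z)
  obtain ⟨N, hN, ⟨e⟩⟩ := AVLib.exists_iso_pullback_of_locally f hL hgen hbij
  have hs : (x ≫ τ) ≫ f = 𝟙 S := by
    show (x ≫ τ) ≫ pullback.fst fX fY ≫ fX = _
    rw [Category.assoc, ← Category.assoc τ, hτ₁, Category.id_comp, hx]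
  have h1 : Triv ((Scheme.Modules.pullback (𝟙 S)).obj N) := (triv_pullback_comp_iff (x ≫ τ) f hs).1
    (((triv_pullback_comp_iff x τ rfl).1 (hτ.pullback x (isInvertible_pullback _ hL))).of_iso
      ((Scheme.Modules.pullback (x ≫ τ)).mapIso e.symm))
  exact ((h1.of_iso ((Scheme.Modules.pullbackId S).app N)).pullback f hN).of_iso e

end Groth.Agent.CubeGenLib
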