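import Groth.Agent.CubeGenLib.Model
import Groth.Agent.CubeGenLib.GeomIntGen
import Groth.Agent.CubeBaseLib.Base
import Groth.Agent.AVLib.Descend
import Groth.Agent.PicTrivLib.UnivApp
import Groth.Agent.ParaFLib.Extend

/-!
# The theorem of the cube over an arbitrary base
-/

set_option autoImplicit false
set_option backward.isDefEq.respectTransparency false
set_option linter.style.haveILetI false
set_option linter.unusedSectionVars false

universe u

open CategoryTheory CategoryTheory.Limits AlgebraicGeometry TopologicalSpace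
open Groth.Agent.CubeLib Groth.Agent.AmpleLib Groth.Agent.PullbackMod Groth.Agent.ParaFLib

noncomputable section

namespace Groth.Agent.CubeGenLib

/-- Triviality on a fibre only depends on the image of the point. -/
theorem triv_fiber_iff {P P₀ S S₀ : Scheme.{u}} {q : P ⟶ P₀} {f : P ⟶ S} {f₀ : P₀ ⟶ S₀} {g : S ⟶ S₀}
    (hq : IsPullback q f f₀ g) [IsProper f₀] [GeometricallyIntegral f₀] {M : P₀.Modules} (hM : PicF.IsInvertible M)
    {L : P.Modules} (e : (Scheme.Modules.pullback q).obj M ≅ L) (z : S) :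
    Triv ((Scheme.Modules.pullback (f.fiberι z)).obj L) ↔
      Triv ((Scheme.Modules.pullback (f₀.fiberι (g z))).obj M) := by
  have H := isPullback_fiberToSpecResidueField_of_isPullback hq z
  let m : f.fiber z ⟶ f₀.fiber (g z) := pullback.map _ _ _ _ q (Spec.map (g.residueFieldMap z)) g hq.w.symm (by simp)
  have hm : m ≫ f₀.fiberι (g z) = f.fiberι z ≫ q := pullback.lift_fst _ _ _
  have h1 : Triv ((Scheme.Modules.pullback (f.fiberι z)).obj L) ↔
      Triv ((Scheme.Modules.pullback m).obj ((Scheme.Modules.pullback (f₀.fiberι (g z))).obj M)) := by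
    rw [triv_pullback_comp_iff m (f₀.fiberι (g z)) hm, ← triv_pullback_comp_iff (f.fiberι z) q rfl]
    exact ⟨fun h => h.of_iso ((Scheme.Modules.pullback (f.fiberι z)).mapIso e.symm),
      fun h => h.of_iso ((Scheme.Modules.pullback (f.fiberι z)).mapIso e)⟩
  refine h1.trans ⟨fun h => ?_, fun h => h.pullback m (isInvertible_pullback _ hM)⟩
  haveI : IsProper (f₀.fiberToSpecResidueField (g z)) := MorphismProperty.pullback_snd _ _ ‹_›
  haveI : GeometricallyIntegral (f₀.fiberToSpecResidueField (g z)) := MorphismProperty.pullback_snd _ _ ‹_›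
  haveI : IsIntegral (f₀.fiber (g z)) :=
    GeometricallyIntegral.geometrically_isIntegral _ _ _ (IsPullback.of_hasPullback f₀ (S₀.fromSpecResidueField (g z)))
  letI : Algebra (S₀.residueField (g z)) (S.residueField z) := (g.residueFieldMap z).hom.toAlgebra
  exact AVLib.triv_of_bc (K := S₀.residueField (g z)) (K' := S.residueField z)
    (p := f₀.fiberToSpecResidueField (g z)) (p' := f.fiberToSpecResidueField z) (g := m) H
    (isInvertible_pullback _ hM) h

variable {S X Y : Scheme.{u}} (fX : X ⟶ S) (fY : Y ⟶ S)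
  [IsProper fX] [Flat fX] [LocallyOfFinitePresentation fX] [GeometricallyIntegral fX]
  [IsProper fY] [Flat fY] [LocallyOfFinitePresentation fY] [GeometricallyIntegral fY]
  (x : S ⟶ X) (hx : x ≫ fX = 𝟙 S) (y : S ⟶ Y) (hy : y ≫ fY = 𝟙 S)
  (σ : Y ⟶ pullback fX fY) (hσ₁ : σ ≫ pullback.fst fX fY = fY ≫ x) (hσ₂ : σ ≫ pullback.snd fX fY = 𝟙 Y)
  (τ : X ⟶ pullback fX fY) (hτ₁ : τ ≫ pullback.fst fX fY = 𝟙 X) (hτ₂ : τ ≫ pullback.snd fX fY = fX ≫ y)
  {L : (pullback fX fY).Modules} (hL : PicF.IsInvertible L)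
  (hσ : Triv ((Scheme.Modules.pullback σ).obj L)) (hτ : Triv ((Scheme.Modules.pullback τ).obj L))

include hx hy hσ₁ hσ₂ hτ₁ hτ₂ hL hσ hτ

/-- The three consequences of a model over an affine base. -/
theorem affine_cube [IsAffine S] :
    IsClopen {z : S | Triv ((Scheme.Modules.pullback ((pullback.fst fX fY ≫ fX).fiberι z)).obj L)} ∧
    (∀ z : S, Triv ((Scheme.Modules.pullback ((pullback.fst fX fY ≫ fX).fiberι z)).obj L) →
      ∃ U : S.Opens, z ∈ U ∧ ∃ s : Γ(L, (pullback.fst fX fY ≫ fX) ⁻¹ᵁ U), Gen ((pullback.fst fX fY ≫ fX) ⁻¹ᵁ U) s) ∧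
    ∀ V : S.Opens, Function.Bijective ((pullback.fst fX fY ≫ fX).app V) := by
  let c := zConeS S
  have hc : IsLimit c := isLimitZConeS S
  obtain ⟨i₁, A₁, hA⟩ := exists_pm_gi (c := c) (fX := fX) hc hx
  obtain ⟨i₂, B₁, hB⟩ := exists_pm_gi (c := c) (fX := fY) hc hy
  let i := IsCofiltered.min i₁ i₂
  haveI : GeometricallyIntegral (A₁.move (IsCofiltered.minToLeft i₁ i₂)).hom := PM.gi_move _ _
  haveI : GeometricallyIntegral (B₁.move (IsCofiltered.minToRight i₁ i₂)).hom := PM.gi_move _ _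
  obtain ⟨j, A, B, M, hgA, hgB, hM, hs, ht, ⟨e⟩⟩ := exists_cube_model (A₁.move (IsCofiltered.minToLeft i₁ i₂))
    (B₁.move (IsCofiltered.minToRight i₁ i₂)) hc σ hσ₁ hσ₂ τ hτ₁ hτ₂ hL hσ hτ
  let g : S ⟶ (FPModelLib.zSys Γ(S, ⊤)).obj j := c.π.app j
  let f := pullback.fst fX fY ≫ fX
  let f₀ := pullback.fst A.hom B.hom ≫ A.hom
  have hq : IsPullback (qP A B) f f₀ g := isPullback_qP A B
  haveI : GeometricallyIntegral f₀ := CubeBaseLib.geometricallyIntegral_struct A.hom B.hom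
  haveI : IsProper f₀ := inferInstanceAs (IsProper (pullback.fst A.hom B.hom ≫ A.hom))
  haveI : Flat f₀ := inferInstanceAs (Flat (pullback.fst A.hom B.hom ≫ A.hom))
  have hσ₀ : sigma A B ≫ pullback.fst A.hom B.hom = B.hom ≫ A.sec := pullback.lift_fst _ _ _
  have hσ₀' : sigma A B ≫ pullback.snd A.hom B.hom = 𝟙 _ := pullback.lift_snd _ _ _
  have hτ₀ : tau A B ≫ pullback.fst A.hom B.hom = 𝟙 _ := pullback.lift_fst _ _ _
  have hτ₀' : tau A B ≫ pullback.snd A.hom B.hom = A.hom ≫ B.sec := pullback.lift_snd _ _ _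
  have hfib : ∀ z, Triv ((Scheme.Modules.pullback (f.fiberι z)).obj L) ↔
      Triv ((Scheme.Modules.pullback (f₀.fiberι (g z))).obj M) := triv_fiber_iff hq hM e
  refine ⟨?_, fun z hz => ?_, fun V => ?_⟩
  · have h := (CubeBaseLib.isClopen_setOf_triv A.hom B.hom A.sec A.sec_hom B.sec B.sec_hom _ hσ₀ hσ₀' _ hτ₀ hτ₀'
      hM hs ht).preimage g.continuous
    have heq : {z : S | Triv ((Scheme.Modules.pullback (f.fiberι z)).obj L)} =
        g ⁻¹' {w | Triv ((Scheme.Modules.pullback (f₀.fiberι w)).obj M)} := Set.ext fun z => hfib z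
    exact heq ▸ h
  · obtain ⟨U₀, hzU, s, hgen⟩ := CubeBaseLib.exists_gen_nhd A.hom B.hom A.sec A.sec_hom B.sec B.sec_hom _ hσ₀
      hσ₀' _ hτ₀ hτ₀' hM hs ht ((hfib z).1 hz)
    have hle : f ⁻¹ᵁ (g ⁻¹ᵁ U₀) ≤ qP A B ⁻¹ᵁ (f₀ ⁻¹ᵁ U₀) := fun p hp => by
      show f₀ (qP A B p) ∈ U₀
      rw [← Scheme.Hom.comp_apply, hq.w, Scheme.Hom.comp_apply]
      exact hp
    exact ⟨g ⁻¹ᵁ U₀, hzU, _, gen_of_modIso e (gen_pullMap (qP A B) hM hgen hle)⟩
  · have h1 := PicTrivLib.isIso_app_univ f₀ (AVLib.bijective_fiber f₀) S g V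
    have h2 : f = hq.isoPullback.hom ≫ pullback.snd f₀ g := hq.isoPullback_hom_snd.symm
    show Function.Bijective (f.app V)
    rw [h2, Scheme.Hom.comp_app]
    exact ConcreteCategory.bijective_of_isIso _

end Groth.Agent.CubeGenLib
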