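import Mathlib.AlgebraicGeometry.Pullbacks

/-!
# Products of cartesian squares over a common base
-/

set_option autoImplicit false
set_option backward.isDefEq.respectTransparency false

universe u

open CategoryTheory CategoryTheory.Limits AlgebraicGeometry

noncomputable section

namespace Groth.Agent.CubeGenLib

variable {S X Y S' X' Y' : Scheme.{u}} {fX : X ⟶ S} {fY : Y ⟶ S} {fX' : X' ⟶ S'} {fY' : Y' ⟶ S'} {g : S' ⟶ S}
  {a : X' ⟶ X} {b : Y' ⟶ Y}

/-- The induced map of fibre products. -/
def prodMap (hA : IsPullback a fX' fX g) (hB : IsPullback b fY' fY g) : pullback fX' fY' ⟶ pullback fX fY :=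
  pullback.map _ _ _ _ a b g hA.w.symm hB.w.symm

theorem isPullback_prodMap (hA : IsPullback a fX' fX g) (hB : IsPullback b fY' fY g) :
    IsPullback (prodMap hA hB) (pullback.fst fX' fY' ≫ fX') (pullback.fst fX fY ≫ fX) g := by
  have hbig : IsPullback (prodMap hA hB ≫ pullback.fst fX fY) (pullback.snd fX' fY') fX (b ≫ fY) := by
    rw [hB.w, prodMap, pullback.map, pullback.lift_fst]
    exact (IsPullback.of_hasPullback fX' fY').paste_horiz hA
  have h1 : IsPullback (prodMap hA hB) (pullback.snd fX' fY') (pullback.snd fX fY) b :=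
    IsPullback.of_right hbig (pullback.lift_snd _ _ _) (IsPullback.of_hasPullback _ _)
  rw [pullback.condition, pullback.condition]
  exact h1.paste_vert hB

end Groth.Agent.CubeGenLib
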