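import Groth.Agent.FPModelLib.ProperModel
import Groth.Agent.FPModelLib.ZModel

/-!
# Pointed proper flat models over the stages of a limit
-/

set_option autoImplicit false
set_option backward.isDefEq.respectTransparency false
set_option linter.style.haveILetI false
set_option linter.unusedSectionVars false

universe u

open CategoryTheory CategoryTheory.Limits AlgebraicGeometry Opposite

noncomputable section

namespace Groth.Agent.CubeGenLib

/-- The cone of finitely generated stages with vertex an affine scheme. -/
def zConeS (S : Scheme.{u}) [IsAffine S] : Cone (FPModelLib.zSys Γ(S, ⊤)) where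
  pt := S
  π :=
    { app := FPModelLib.zπ S
      naturality := fun _ _ φ => (Category.id_comp _).trans (FPModelLib.zπ_map S φ).symm }

/-- An affine scheme is the limit of its finitely generated stages. -/
def isLimitZConeS (S : Scheme.{u}) [IsAffine S] : IsLimit (zConeS S) :=
  (FPModelLib.isLimitZCone _).ofIsoLimit (Cone.ext S.isoSpec.symm fun i => by
    show _ = S.isoSpec.inv ≫ FPModelLib.zπ S i
    rw [FPModelLib.zπ, Iso.inv_hom_id_assoc])

variable {I : Type u} [SmallCategory I] [IsCofiltered I] (D : I ⥤ Scheme.{u}) (c : Cone D)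
  [∀ {i j} (a : i ⟶ j), IsAffineHom (D.map a)] [∀ i, IsAffine (D.obj i)]

/-- A proper flat model with a section of a pointed scheme over the limit, at a given stage. -/
structure PM {X : Scheme.{u}} (fX : X ⟶ c.pt) (x : c.pt ⟶ X) (i : I) where
  /-- The model. -/
  obj : Scheme.{u}
  /-- Its structure map. -/
  hom : obj ⟶ D.obj i
  /-- The projection. -/
  q : X ⟶ obj
  /-- The section of the model. -/
  sec : D.obj i ⟶ obj
  proper : IsProper hom
  flat : Flat hom
  lfp : LocallyOfFinitePresentation hom
  isPullback : IsPullback q fX hom (c.π.app i)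
  sec_hom : sec ≫ hom = 𝟙 _
  sec_q : x ≫ q = c.π.app i ≫ sec
  sec_fX : x ≫ fX = 𝟙 _

attribute [instance] PM.proper PM.flat PM.lfp

variable {D c} {X : Scheme.{u}} {fX : X ⟶ c.pt} {x : c.pt ⟶ X}

namespace PM

variable {i : I} (A : PM D c fX x i)

/-- A model at a later stage. -/
def move {j : I} (φ : j ⟶ i) : PM D c fX x j where
  obj := pullback A.hom (D.map φ)
  hom := pullback.snd A.hom (D.map φ)
  q := pullback.lift A.q (fX ≫ c.π.app j) (by rw [Category.assoc, c.w]; exact A.isPullback.w)
  sec := pullback.lift (D.map φ ≫ A.sec) (𝟙 _) (by rw [Category.assoc, A.sec_hom, Category.comp_id, Category.id_comp])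
  proper := MorphismProperty.pullback_snd _ _ A.proper
  flat := MorphismProperty.pullback_snd _ _ A.flat
  lfp := MorphismProperty.pullback_snd _ _ A.lfp
  isPullback := IsPullback.of_right (by rw [pullback.lift_fst, c.w]; exact A.isPullback) (pullback.lift_snd _ _ _)
    (IsPullback.of_hasPullback _ _)
  sec_hom := pullback.lift_snd _ _ _
  sec_q := by
    apply pullback.hom_ext
    · rw [Category.assoc, pullback.lift_fst, A.sec_q, Category.assoc, pullback.lift_fst, ← Category.assoc, c.w]
    · rw [Category.assoc, pullback.lift_snd, ← Category.assoc, A.sec_fX, Category.id_comp, Category.assoc,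
        pullback.lift_snd, Category.comp_id]
  sec_fX := A.sec_fX

instance gi_move {j : I} (φ : j ⟶ i) [GeometricallyIntegral A.hom] : GeometricallyIntegral (A.move φ).hom :=
  MorphismProperty.pullback_snd _ _ inferInstance

end PM

variable (hc : IsLimit c)

include hc in
/-- A pointed proper flat finitely presented scheme over the limit has a pointed model. -/
theorem exists_pm [IsProper fX] [Flat fX] [LocallyOfFinitePresentation fX] (hx : x ≫ fX = 𝟙 c.pt) :
    ∃ i, Nonempty (PM D c fX x i) := by
  haveI : CompactSpace c.pt := Scheme.compactSpace_of_isLimit D c hc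
  haveI : IsAffine c.pt := Scheme.isAffine_of_isLimit c hc
  haveI : CompactSpace X := QuasiCompact.compactSpace_of_compactSpace fX
  haveI : QuasiSeparatedSpace X := quasiSeparatedSpace_of_quasiSeparated fX
  obtain ⟨i, G, g, q, hG, hp, hfl⟩ := FPModelLib.exists_proper_flat_model D c hc fX
  haveI := hG.lfp
  let t : Over.forget i ⋙ D ⟶ (Functor.const (Over i)).obj (D.obj i) :=
    { app := fun k => D.map k.hom
      naturality := fun k l φ => by
        show D.map φ.left ≫ D.map l.hom = D.map k.hom ≫ 𝟙 _
        rw [← D.map_comp, Over.w φ, Category.comp_id] }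
  haveI : ∀ {a b : Over i} (f : a ⟶ b), IsAffineHom ((Over.forget i ⋙ D).map f) := fun f =>
    inferInstanceAs (IsAffineHom (D.map f.left))
  haveI : ∀ k, CompactSpace ((Over.forget i ⋙ D).obj k) := fun k => inferInstanceAs (CompactSpace (D.obj k.left))
  haveI : ∀ k, QuasiSeparatedSpace ((Over.forget i ⋙ D).obj k) := fun k =>
    inferInstanceAs (QuasiSeparatedSpace (D.obj k.left))
  obtain ⟨k, s, hs₁, hs₂⟩ := Scheme.exists_π_app_comp_eq_of_locallyOfFinitePresentation
    (Over.forget i ⋙ D) t g (c.whisker (Over.forget i))
    ((Functor.Initial.isLimitWhiskerEquiv (Over.forget i) c).symm hc) (x ≫ q) (by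
      ext k : 2
      show c.π.app k.left ≫ D.map k.hom = (x ≫ q) ≫ g
      rw [c.w, Category.assoc, hG.isPullback.w, ← Category.assoc, hx, Category.id_comp])
  have hs₁ : c.π.app k.left ≫ s = x ≫ q := hs₁
  have hs₂ : s ≫ g = D.map k.hom := hs₂
  exact ⟨k.left, ⟨{
    obj := pullback g (D.map k.hom)
    hom := pullback.snd g (D.map k.hom)
    q := FlatStage.vMap D c i g hG.isPullback k
    sec := pullback.lift s (𝟙 _) (hs₂.trans (Category.id_comp _).symm)
    proper := MorphismProperty.pullback_snd _ _ hp
    flat := MorphismProperty.pullback_snd _ _ hfl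
    lfp := MorphismProperty.pullback_snd _ _ hG.lfp
    isPullback := (hG.stage D c k).isPullback
    sec_hom := pullback.lift_snd _ _ _
    sec_q := by
      apply pullback.hom_ext
      · rw [Category.assoc, FlatStage.vMap_fst, Category.assoc, pullback.lift_fst, hs₁]
      · rw [Category.assoc, FlatStage.vMap_snd, ← Category.assoc, hx, Category.id_comp, Category.assoc,
          pullback.lift_snd, Category.comp_id]
    sec_fX := hx }⟩⟩

end Groth.Agent.CubeGenLib
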